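import Cfsg.Agent.Lib.Geometric.Orth.Eight.SubfieldPairs

/-!
Subfield groups are maximal in `omegaGL`, from dimension seven on.
-/

set_option autoImplicit false

namespace CfsgLib.Geometric.Orth

open Matrix QuadraticMap CfsgLib.ClassicalForms
open scoped MatrixGroups

variable {ι : Type} [Fintype ι] [DecidableEq ι] {F : Type*} [Field F]

namespace OSubfld8

open OSubfld
open LSubfld (RatV)
open SSubfld (em em_add em_sub em_smul em_zero em_injective em_ne_zero ratV_em)

variable {Q : QuadraticForm F (ι → F)} {F₀ : Subfield F} (hrat : ∀ v, RatV F₀ v → Q v ∈ F₀)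

section Planes

variable [Finite F] (hQ : Nondeg Q) (hn : 7 ≤ Fintype.card ι)
  {g : GL ι F}
  (hplane : ∀ x z : ι → F₀, Pair hrat x z → RatPlane F₀ (ap g (em x)) (ap g (em z)))
include hrat hQ hn hplane

/-- Singular vectors over the subfield go to lines over it. -/
lemma lineRat_of_planes {x : ι → F₀} (hxx : form₀ hrat x = 0) :
    ∃ (c : F) (y : ι → F₀), ap g (em x) = c • em y := by
  by_cases hx0 : x = 0
  · exact ⟨0, 0, by rw [hx0, em_zero, ap_zero, zero_smul]⟩
  obtain ⟨d, hd, hxd, -, -⟩ := exists_dual hrat hQ (x := 0) (y := x) (z := 0)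
    (by simpa using hx0) hxx (polar₀_eq_zero hrat |>.2 (by simp [em_zero]))
    (polar₀_eq_zero hrat |>.2 (by simp [em_zero]))
  obtain ⟨z, P, hzp⟩ := exists_perp_ind hrat hn (x := x) (d := d) (j := 2) (by omega) ![x, d] 0 1 rfl rfl
    (by rw [polar_comm]; exact hxd) hxx
  obtain ⟨x', z', hx', hz', -, h1, h2, h3, h4⟩ := P.exists_duals hrat hQ
  obtain ⟨z₂, P₂, hp⟩ := exists_perp_ind hrat hn (x := x) (d := x') (j := 4) (by omega) ![x, z, x', z'] 0 2 rfl rfl
    (by rw [polar_comm]; exact h1) hxx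
  have hxz2 : polar (form₀ hrat) x z₂ = 0 := hp 0
  have hzz2 : polar (form₀ hrat) z z₂ = 0 := hp 1
  have hx'z2 : polar (form₀ hrat) x' z₂ = 0 := hp 2
  have hz'z2 : polar (form₀ hrat) z' z₂ = 0 := hp 3
  have hn2 : z₂ ∉ Submodule.span F₀ {x, z} := by
    intro e
    obtain ⟨p, q, rfl⟩ := Submodule.mem_span_pair.1 e
    rw [polar_add_right, polar_smul_right, polar_smul_right, polar_comm _ z' x, h3,
      polar_comm _ z' z, h4] at hz'z2
    rw [polar_add_right, polar_smul_right, polar_smul_right, polar_comm _ x' x, h1,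
      polar_comm _ x' z, h2] at hx'z2
    simp only [smul_eq_mul, mul_one, mul_zero, add_zero, zero_add] at hz'z2 hx'z2
    subst hz'z2 hx'z2
    exact one_ne_zero (P₂.ind 0 1 (by simp)).2
  obtain ⟨w₂, hw₂, h5, h6, h7⟩ := exists_dual hrat hQ hn2 P₂.hz hxz2 hzz2
  obtain ⟨a₀, b₀, ha, hb⟩ := hplane _ _ P
  obtain ⟨c₀, d₀, hc, hd'⟩ := hplane _ _ P₂
  obtain ⟨α, β, hαβ⟩ := Submodule.mem_span_pair.1 ha
  by_cases hβ : β = 0
  · exact ⟨α, a₀, by rw [← hαβ, hβ, zero_smul, add_zero]⟩
  by_cases hk : α / β ∈ F₀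
  · refine ⟨β, (⟨_, hk⟩ : F₀) • a₀ + b₀, ?_⟩
    rw [em_add, em_smul, smul_add, smul_smul, ← hαβ]
    simp only [mul_div_cancel₀ _ hβ]
  exfalso
  -- otherwise the two planes are the same
  have hin : ∀ {v : ι → F₀}, (v = a₀ ∨ v = b₀) → em v ∈ Submodule.span F {em c₀, em d₀} := by
    intro v hv
    by_contra hne
    have hv₀ : v ∉ Submodule.span F₀ {c₀, d₀} := by
      intro e
      obtain ⟨p, q, rfl⟩ := Submodule.mem_span_pair.1 e
      exact hne (Submodule.mem_span_pair.2 ⟨p, q, by rw [em_add, em_smul, em_smul]⟩)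
    obtain ⟨p, hp, hvp⟩ := exists_polar_sep (nondeg₀ hrat hQ) hv₀
    have hgx : polar Q (ap g (em x)) (em p) = 0 := by
      obtain ⟨s, t, hst⟩ := Submodule.mem_span_pair.1 hc
      rw [← hst, polar_add_left, polar_smul_left, polar_smul_left,
        (polar₀_eq_zero hrat).1 (hp c₀ (Submodule.subset_span (by simp))),
        (polar₀_eq_zero hrat).1 (hp d₀ (Submodule.subset_span (by simp))), smul_zero, smul_zero,
        add_zero]
    rw [← hαβ, polar_add_left, polar_smul_left, polar_smul_left, ← coe_polar₀ hrat,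
      ← coe_polar₀ hrat, smul_eq_mul, smul_eq_mul] at hgx
    rcases hv with rfl | rfl
    · rw [hvp] at hgx
      apply hk
      rw [show α / β = -((polar (form₀ hrat) b₀ p : F₀) : F) by
        field_simp
        simp only [OneMemClass.coe_one, mul_one] at hgx
        linear_combination hgx]
      exact neg_mem (polar (form₀ hrat) b₀ p).2
    · rw [hvp] at hgx
      simp only [OneMemClass.coe_one, mul_one] at hgx
      by_cases hpa : ((polar (form₀ hrat) a₀ p : F₀) : F) = 0
      · rw [hpa, mul_zero, zero_add] at hgx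
        exact hβ hgx
      · apply hk
        rw [show α / β = -(((polar (form₀ hrat) a₀ p : F₀) : F))⁻¹ by
          field_simp
          linear_combination hgx]
        exact neg_mem (inv_mem (polar (form₀ hrat) a₀ p).2)
  have hb' : ap g (em z) ∈ Submodule.span F {em c₀, em d₀} := by
    refine (Submodule.span_le.2 ?_) hb
    intro v hv
    rcases hv with rfl | rfl
    exacts [hin (Or.inl rfl), hin (Or.inr rfl)]
  obtain ⟨α₁, β₁, e1⟩ := Submodule.mem_span_pair.1 hc
  obtain ⟨α₂, β₂, e2⟩ := Submodule.mem_span_pair.1 hb'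
  obtain ⟨α₃, β₃, e3⟩ := Submodule.mem_span_pair.1 hd'
  -- three independent vectors in a plane
  have hind : ∀ p q s : F, p • em x + q • em z + s • em z₂ = 0 → p = 0 ∧ q = 0 ∧ s = 0 := by
    intro p q s h
    have f1 := congrArg (fun v => polar Q v (em x')) h
    have f2 := congrArg (fun v => polar Q v (em z')) h
    have f3 := congrArg (fun v => polar Q v (em w₂)) h
    simp only [polar_add_left, polar_smul_left, polar_zero_left, (polar₀_eq_one hrat).1 h1,
      (polar₀_eq_zero hrat).1 h2, (polar₀_eq_zero hrat).1 h3, (polar₀_eq_one hrat).1 h4,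
      (polar₀_eq_one hrat).1 h5, (polar₀_eq_zero hrat).1 h6, (polar₀_eq_zero hrat).1 h7,
      polar_comm Q (em z₂) (em x'), (polar₀_eq_zero hrat).1 hx'z2,
      polar_comm Q (em z₂) (em z'), (polar₀_eq_zero hrat).1 hz'z2,
      smul_eq_mul, mul_zero, mul_one, add_zero, zero_add] at f1 f2 f3
    exact ⟨f1, f2, f3⟩
  have hcomb : ∀ p q s : F, p * α₁ + q * α₂ + s * α₃ = 0 → p * β₁ + q * β₂ + s * β₃ = 0 →
      p = 0 ∧ q = 0 ∧ s = 0 := by
    intro p q s hA hB
    refine hind p q s (ap_injective g ?_)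
    rw [ap_zero, ap_add, ap_add, ap_smul, ap_smul, ap_smul, ← e1, ← e2, ← e3]
    calc p • (α₁ • em c₀ + β₁ • em d₀) + q • (α₂ • em c₀ + β₂ • em d₀)
          + s • (α₃ • em c₀ + β₃ • em d₀)
        = (p * α₁ + q * α₂ + s * α₃) • em c₀ + (p * β₁ + q * β₂ + s * β₃) • em d₀ := by module
      _ = 0 := by rw [hA, hB, zero_smul, zero_smul, add_zero]
  obtain ⟨-, -, k3⟩ := hcomb (α₂ * β₃ - α₃ * β₂) (α₃ * β₁ - α₁ * β₃) (α₁ * β₂ - α₂ * β₁)
    (by ring) (by ring)
  obtain ⟨hβ₂, -, -⟩ := hcomb β₂ (-β₁) 0 (by linear_combination k3) (by ring)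
  obtain ⟨hα₂, -, -⟩ := hcomb α₂ (-α₁) 0 (by ring) (by linear_combination -k3)
  obtain ⟨-, k2, -⟩ := hcomb 0 1 0 (by linear_combination hα₂) (by linear_combination hβ₂)
  exact one_ne_zero k2

/-- The map lies in the subfield group. -/
lemma mem_subfield_of_planes : g ∈ Cfsg.Geo.subfieldSubgroup F₀ (1 : GL ι F) := by
  have hline := fun (x : ι → F₀) (hx : form₀ hrat x = 0) =>
    lineRat_of_planes hrat hQ hn hplane hx
  -- the scalars of orthogonal singular vectors agree
  have hpair : ∀ x y : ι → F₀, form₀ hrat x = 0 → form₀ hrat y = 0 →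
      polar (form₀ hrat) x y = 0 → ∀ (c : F) (s : ι → F₀), ap g (em x) = c • em s → x ≠ 0 →
      RatV F₀ (c⁻¹ • ap g (em y)) := by
    intro x y hxx hyy hxy c s hs hx0
    have hc0 : c ≠ 0 ∧ em s ≠ 0 := by
      have := ap_ne_zero g (em_ne_zero hx0); rw [hs] at this; exact smul_ne_zero_iff.1 this
    by_cases hyx : y ∈ Submodule.span F₀ {x}
    · obtain ⟨k, rfl⟩ := Submodule.mem_span_singleton.1 hyx
      rw [em_smul, ap_smul, hs, smul_smul, smul_smul,
        show c⁻¹ * (k : F) * c = k by field_simp [hc0.1]]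
      exact (ratV_em s).smul k.2
    obtain ⟨ν, t, ht⟩ := hline y hyy
    obtain ⟨ρ, w, hw⟩ := hline (x + y) (by
      rw [map_add_eq, hxx, hyy, hxy, add_zero, add_zero])
    rw [em_add, ap_add, hs, ht] at hw
    have hy0 : y ≠ 0 := fun h => hyx (h ▸ zero_mem _)
    have hν0 : ν ≠ 0 ∧ em t ≠ 0 := by
      have := ap_ne_zero g (em_ne_zero hy0); rw [ht] at this; exact smul_ne_zero_iff.1 this
    have hts : em t ∉ Submodule.span F {em s} := by
      intro h
      obtain ⟨k, hk⟩ := Submodule.mem_span_singleton.1 h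
      have hxy' : em y = (ν * k * c⁻¹) • em x := by
        apply ap_injective g
        rw [ap_smul, hs, ht, ← hk, smul_smul, smul_smul, inv_mul_cancel_right₀ hc0.1]
      apply hyx
      obtain ⟨i, hi⟩ := Function.ne_iff.1 hx0
      simp only [Pi.zero_apply] at hi
      refine Submodule.mem_span_singleton.2 ⟨y i / x i, em_injective ?_⟩
      rw [em_smul, hxy']
      congr 1
      have h2 := congrFun hxy' i
      simp only [SSubfld.em, Pi.smul_apply, smul_eq_mul] at h2
      rw [Subfield.coe_div, h2, mul_div_cancel_right₀ _ (fun e => hi (Subtype.ext e))]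
    have hst : em s ∉ Submodule.span F {em t} := by
      intro h
      obtain ⟨k, hk⟩ := Submodule.mem_span_singleton.1 h
      have hk0 : k ≠ 0 := fun e => hc0.2 (by rw [← hk, e, zero_smul])
      exact hts (Submodule.mem_span_singleton.2 ⟨k⁻¹, by
        rw [← hk, smul_smul, inv_mul_cancel₀ hk0, one_smul]⟩)
    obtain ⟨χ, hχ, h1, h2⟩ := LSubfld.exists_ratF_sep (ratV_em s) hc0.2 hts
    obtain ⟨ξ, hξ, h3, h4⟩ := LSubfld.exists_ratF_sep (ratV_em t) hν0.2 hst
    have e1 := congrArg χ hw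
    have e2 := congrArg ξ hw
    simp only [map_add, map_smul, h1, h3, smul_eq_mul, mul_zero, zero_add, add_zero] at e1 e2
    rw [ht, smul_smul]
    have hρ : ρ ≠ 0 := fun h => by
      rw [h, zero_mul] at e1; exact mul_ne_zero hν0.1 h2 e1
    have hwχ : ξ (em w) ≠ 0 := fun h => mul_ne_zero hc0.1 h4 (by rw [e2, h, mul_zero])
    refine (ratV_em t).smul ?_
    rw [show c⁻¹ * ν = (χ (em w) / χ (em t)) * (ξ (em s) / ξ (em w)) by
      rw [div_mul_div_comm, eq_div_iff (mul_ne_zero h2 hwχ)]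
      linear_combination c⁻¹ * (e1 * ξ (em w) - e2 * χ (em w)) +
        (χ (em w) * ξ (em s)) * inv_mul_cancel₀ hc0.1]
    exact mul_mem (div_mem (LSubfld.ratF_apply hχ (ratV_em w)) (LSubfld.ratF_apply hχ (ratV_em t)))
      (div_mem (LSubfld.ratF_apply hξ (ratV_em s)) (LSubfld.ratF_apply hξ (ratV_em w)))
  obtain ⟨e, he0, hee, -⟩ := exists_singular_perp hrat hn (j := 0) (by omega) Fin.elim0
  obtain ⟨c₀, s₀, hs₀⟩ := hline e hee
  have hc₀ : c₀ ≠ 0 := fun h => ap_ne_zero g (em_ne_zero he0) (by rw [hs₀, h, zero_smul])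
  have hall : ∀ x : ι → F₀, RatV F₀ (c₀⁻¹ • ap g (em x)) := by
    refine singular_induction_top hrat hQ hn (fun y hyy => ?_) (fun x y hx hy => by
      rw [em_add, ap_add, smul_add]; exact hx.add hy)
    by_cases hey : polar (form₀ hrat) e y = 0
    · exact hpair e y hee hyy hey c₀ s₀ hs₀ he0
    obtain ⟨z, hz0, hzz, hzp⟩ := exists_singular_perp hrat hn (j := 2) (by omega) ![e, y]
    have h1 := hpair e z hee hzz (hzp 0) c₀ s₀ hs₀ he0
    exact hpair z y hzz hyy (by rw [polar_comm]; exact hzp 1) c₀ (fun i => ⟨_, h1 i⟩)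
      (funext fun i => by
        simp only [SSubfld.em, Pi.smul_apply, smul_eq_mul]
        rw [mul_inv_cancel_left₀ hc₀]) hz0
  refine Subfld.scalar_mul_mem (c := Units.mk0 c₀ hc₀) fun x hx k => ?_
  have hx' : RatV F₀ x := fun j => by simpa using hx j
  simpa [show em (fun j => (⟨x j, hx' j⟩ : F₀)) = x from rfl] using
    hall (fun j => ⟨x j, hx' j⟩) k


end Planes

section Max

variable [Finite F] (hQ : Nondeg Q) (hn : 7 ≤ Fintype.card ι)
  {M : Subgroup (GL ι F)} (hMI : M ≤ Cfsg.isometryGroup F (⇑Q))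
  (hM : ∀ u w : ι → F₀, form₀ hrat u = 0 → polar (form₀ hrat) u w = 0 → rs Q (em u) (em w) ∈ M)
  (hΛ : ∀ x z : ι → F₀, form₀ hrat x = 0 → form₀ hrat z = 0 → polar (form₀ hrat) x z = 0 →
    Ind x z → ∀ c : F, rs Q (em x) (c • em z) ∈ M → c ∈ F₀)
include hrat hQ hn hMI hM hΛ

/-- The planes of the overgroup are over the subfield, so it is inside the subfield group. -/
lemma mem_subfield {r : ℕ} (hr : r.Prime) (hcard : Nat.card F = Nat.card F₀ ^ r) {g : GL ι F}
    (hg : g ∈ M) : g ∈ Cfsg.Geo.subfieldSubgroup F₀ (1 : GL ι F) := by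
  refine mem_subfield_of_planes hrat hQ hn fun x z P => ?_
  have hxx := P.hx
  have hx0 : x ≠ 0 := fun e => by
    subst e; exact one_ne_zero (P.ind 1 0 (by simp)).1
  have hx := (form₀_eq_zero hrat).1 hxx
  have hz := (form₀_eq_zero hrat).1 P.hz
  have hxz := (polar₀_eq_zero hrat).1 P.hxz
  have hiso := mem_isometryGroup_iff.1 (hMI hg)
  refine ratPlane hrat hQ hMI hM hΛ hn hr hcard (by rw [hiso, hx]) (by rw [hiso, hz])
    (by rw [polar_ap (hMI hg), hxz]) (fun c hc => ?_) (ap_ne_zero g (em_ne_zero hx0)) ?_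
  · rw [← ap_smul] at hc
    have hc' := ap_injective g hc
    obtain ⟨i, hi⟩ := Function.ne_iff.1 hx0
    simp only [Pi.zero_apply] at hi
    have e := congrFun hc' i
    simp only [SSubfld.em, Pi.smul_apply, smul_eq_mul] at e
    have hi' : (x i : F) ≠ 0 := fun e => hi (Subtype.ext e)
    have hk : c = ((z i / x i : F₀) : F) := by
      rw [Subfield.coe_div, e, mul_div_cancel_right₀ _ hi']
    rw [hk, ← em_smul] at hc'
    have := (P.ind (z i / x i) (-1) (by rw [← em_injective hc']; simp)).2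
    exact one_ne_zero (neg_eq_zero.1 this)
  · rw [← conj_rs (hMI hg) hx hxz]
    exact mul_mem (mul_mem hg (hM x z hxx P.hxz)) (inv_mem hg)


end Max

end OSubfld8

open OSubfld OSubfld8 LSubfld SSubfld in
/-- The subfield group of prime degree is maximal in `omegaGL` of a quadratic form rational on the
standard basis. -/
theorem orthSubfield_isMaximalIn_eight [Finite F] (hn : 7 ≤ Fintype.card ι)
    {Q : QuadraticForm F (ι → F)} (hQ : Nondeg Q) {F₀ : Subfield F}
    (hrat : ∀ v, RatV F₀ v → Q v ∈ F₀) {r : ℕ} (hr : r.Prime)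
    (hcard : Nat.card F = Nat.card F₀ ^ r) :
    Cfsg.Geo.IsMaximalIn (Cfsg.Geo.omegaGL (⇑Q))
      (Cfsg.Geo.subfieldSubgroup F₀ (1 : GL ι F) ⊓ Cfsg.Geo.omegaGL (⇑Q)) := by
  classical
  obtain ⟨μ, hμ⟩ : ∃ μ, μ ∉ F₀ := by
    by_contra h
    push Not at h
    have : Nat.card F₀ = Nat.card F := Nat.card_congr (Equiv.subtypeUnivEquiv h)
    rw [this] at hcard
    have h1 : 1 = r := Nat.pow_right_injective Finite.one_lt_card (by simpa using hcard)
    exact hr.one_lt.ne h1
  obtain ⟨x, hx0, hxx, -⟩ := exists_singular_perp hrat hn (j := 0) (by omega) Fin.elim0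
  obtain ⟨d, hd, hxd, -, -⟩ := OSubfld.exists_dual hrat hQ (x := 0) (y := x) (z := 0)
    (by simpa using hx0) hxx (polar₀_eq_zero hrat |>.2 (by simp [SSubfld.em_zero]))
    (polar₀_eq_zero hrat |>.2 (by simp [SSubfld.em_zero]))
  obtain ⟨z, P, hzp⟩ := exists_perp_ind hrat hn (x := x) (d := d) (j := 2) (by omega) ![x, d] 0 1 rfl rfl
    (by rw [polar_comm]; exact hxd) hxx
  obtain ⟨x', z', -, -, hxz', h1, h2, h3, h4⟩ := P.exists_duals hrat hQ
  refine ⟨lt_of_le_of_ne inf_le_right fun heq => ?_, fun M hHM hMS => ?_⟩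
  · have hx := (form₀_eq_zero hrat).1 P.hx
    have hz : Q (μ • em z) = 0 := by
      simp [QuadraticMap.map_smul, (form₀_eq_zero hrat).1 P.hz]
    have hxz : polar Q (em x) (μ • em z) = 0 := by
      simp [polar_smul_right, (polar₀_eq_zero hrat).1 P.hxz]
    have hm : rs Q (em x) (μ • em z) ∈
        Cfsg.Geo.subfieldSubgroup F₀ (1 : GL ι F) ⊓ Cfsg.Geo.omegaGL (⇑Q) := by
      rw [heq, rs_eq hx hxz]; exact sg_mem hQ (by omega) hx hxz
    obtain ⟨c, v, hv, hc⟩ := Subfld.lineRat_of_mem hm.1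
      (show Subfld.Rat F₀ (1 : GL ι F) (em x') from fun l => by simpa using ratV_em x' l)
    have hv' : RatV F₀ v := fun l => by simpa using hv l
    have h1' := (polar₀_eq_one hrat).1 h1
    have h2' := (polar₀_eq_zero hrat).1 h2
    rw [ap_rs' hx hz hxz, polar_comm Q (em x') (em x), h1', polar_smul_right,
      polar_comm Q (em x') (em z), h2'] at hc
    simp only [smul_zero, zero_smul, sub_zero, one_smul] at hc
    have e1 := congrArg (fun w => polar Q w (em x)) hc
    have e2 := congrArg (fun w => polar Q w (em z')) hc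
    simp only [polar_add_left, polar_smul_left, polar_comm Q (em x') (em x), h1',
      polar_comm Q (em z) (em x), (polar₀_eq_zero hrat).1 P.hxz, (polar₀_eq_zero hrat).1 hxz',
      (polar₀_eq_one hrat).1 h4, smul_eq_mul, mul_zero, mul_one, add_zero, zero_add] at e1 e2
    have hv1 := polar_mem hrat hv' (ratV_em x)
    have hv2 := polar_mem hrat hv' (ratV_em z')
    have hne : polar Q v (em x) ≠ 0 := fun h => one_ne_zero (by rw [e1, h, mul_zero])
    apply hμ
    rw [show μ = polar Q v (em z') / polar Q v (em x) by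
      rw [eq_div_iff hne, e2]; linear_combination (-(polar Q v (em z'))) * e1]
    exact div_mem hv2 hv1
  have hMI : M ≤ Cfsg.isometryGroup F (⇑Q) := hMS.trans omegaGL_le
  have hM : ∀ u w : ι → F₀, form₀ hrat u = 0 → polar (form₀ hrat) u w = 0 →
      rs Q (em u) (em w) ∈ M := by
    intro u w hu huw
    have hu' := (form₀_eq_zero hrat).1 hu
    have huw' := (polar₀_eq_zero hrat).1 huw
    refine hHM ⟨Subfld.mem_of_rat fun v hv i => ?_, ?_⟩
    · have hv' : RatV F₀ v := fun j => by simpa using hv j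
      simpa [ap_rs hu' huw'] using
        sub_mem (add_mem (hv' i) (mul_mem (polar_mem hrat hv' (ratV_em u)) (ratV_em w i)))
          (mul_mem (add_mem (polar_mem hrat hv' (ratV_em w))
            (mul_mem (hrat _ (ratV_em w)) (polar_mem hrat hv' (ratV_em u)))) (ratV_em u i))
    · rw [rs_eq hu' huw']
      exact sg_mem hQ (by omega) hu' huw'
  by_cases htop : ∃ (x z : ι → F₀) (c : F), Pair hrat x z ∧ rs Q (em x) (c • em z) ∈ M ∧ c ∉ F₀
  · obtain ⟨x, z, c, P, hc, hcF⟩ := htop
    exact Or.inr (le_antisymm hMS (le_of_top hrat hQ hn hMI hM hr hcard P hc hcF))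
  left
  push Not at htop
  exact le_antisymm (le_inf (fun g hg => mem_subfield hrat hQ hn hMI hM
    (fun x z hx hz hxz hi c hc => htop x z c ⟨hx, hz, hxz, hi⟩ hc) hr hcard hg) hMS) hHM


/-- The subfield group of any rational structure of a quadratic form is maximal. -/
theorem orthSubfield_isMaximalIn_eight' [Finite F] (hn : 7 ≤ Fintype.card ι) {Q : (ι → F) → F}
    (hQ : Cfsg.Geo.IsNondegenerateQuadraticForm Q) {F₀ : Subfield F} {P : GL ι F} {ζ : F}
    (hζ : ζ ≠ 0) (hP : Cfsg.Geo.IsQuadFormRationalStructure (fun v => ζ * Q v) F₀ P) {r : ℕ}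
    (hr : r.Prime) (hcard : Nat.card F = Nat.card F₀ ^ r) :
    Cfsg.Geo.IsMaximalIn (Cfsg.Geo.omegaGL Q)
      (Cfsg.Geo.subfieldSubgroup F₀ P ⊓ Cfsg.Geo.omegaGL Q) := by
  set Q₁ : QuadraticForm F (ι → F) := ζ • (toQF hQ).comp (apEquiv P).toLinearMap with hQ₁def
  have hQ₁ : ∀ v, Q₁ v = ζ * Q (ap P v) := fun v => rfl
  have hnd : Nondeg Q₁ := by
    intro v hv
    have h : ap P v = 0 := by
      refine nondeg_toQF hQ _ fun y => ?_
      have := hv (ap P⁻¹ y)
      simp only [polar, hQ₁, ap_add, ap_ap_inv] at this ⊢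
      rw [← mul_sub, ← mul_sub, mul_eq_zero] at this
      exact this.resolve_left hζ
    exact ap_injective P (h.trans (ap_zero P).symm)
  have hmax := isMaximalIn_map_equiv (orthSubfield_isMaximalIn_eight hn hnd (F₀ := F₀)
    (fun v hv => hP v hv) hr hcard) (MulAut.conj P)
  have e : (Cfsg.Geo.omegaGL ⇑Q₁).map (MulAut.conj P).toMonoidHom = Cfsg.Geo.omegaGL Q := by
    rw [omegaGL_eq, Subgroup.map_commutator]
    have : ⇑Q₁ = fun v => ζ * Q (ap P v) := funext hQ₁
    rw [this, map_conj_isometryGroup Q hζ P, ← coe_toQF hQ, omegaGL_eq]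
  rw [Subgroup.map_inf _ _ _ (MulAut.conj P).injective, e] at hmax
  convert hmax using 2
  rw [Cfsg.Geo.subfieldSubgroup, Cfsg.Geo.subfieldSubgroup, map_one (MulAut.conj (G := GL ι F)),
    Subgroup.map_map]
  rfl


end CfsgLib.Geometric.Orth
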